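import Cfsg.Agent.DualCount.Main

/-!
Classes of elements of prime order in a group in which semisimple conjugacy is given by the
characteristic polynomial.
-/

set_option autoImplicit false

namespace Cfsg.Agent.DualCount

open Polynomial UniqueFactorizationMonoid

universe u v

variable {F : Type u} [Field F]

/-- Reversal normalised to be monic. -/
noncomputable def rdual (f : F[X]) : F[X] := C (f.coeff 0)⁻¹ * f.reverse

/-- Reversal after applying an automorphism to the coefficients. -/
noncomputable def tdual (σ : F →+* F) (f : F[X]) : F[X] := rdual (f.map σ)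

theorem rdual_mul (f g : F[X]) : rdual (f * g) = rdual f * rdual g := by
  rw [rdual, rdual, rdual, mul_coeff_zero, mul_inv, map_mul, reverse_mul_of_domain]
  ring

theorem rdual_X_sub_one : rdual (X - C (1 : F)) = X - C 1 := by
  have h : (X - C (1 : F)).reverse = C 1 - X := by
    have e : (X - C (1 : F)).natDegree = 1 := natDegree_X_sub_C 1
    refine Polynomial.ext fun k => ?_
    rw [coeff_reverse, e]
    rcases k with _ | _ | k
    · simp [revAt_le, coeff_one]
    · simp [revAt_le, coeff_one, coeff_X]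
    · have h2 : revAt 1 (k + 1 + 1) = k + 1 + 1 := by
        show revAtFun 1 (k + 1 + 1) = k + 1 + 1
        rw [revAtFun, if_neg (by omega)]
      rw [h2]
      simp [coeff_one, coeff_X, coeff_C]
  rw [rdual, h, coeff_sub, coeff_X_zero, coeff_C_zero, zero_sub, inv_neg, inv_one, map_neg, map_one]
  ring

theorem rdual_monic {f : F[X]} (hf : f.Monic) (h0 : f.coeff 0 ≠ 0) :
    (rdual f).Monic ∧ (rdual f).natDegree = f.natDegree ∧ (rdual f).coeff 0 ≠ 0 := by
  have ht : f.natTrailingDegree = 0 := natTrailingDegree_eq_zero.2 (Or.inr h0)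
  have hlc : f.reverse.leadingCoeff = f.coeff 0 := by rw [reverse_leadingCoeff, trailingCoeff, ht]
  refine ⟨?_, ?_, ?_⟩
  · rw [rdual, Monic, leadingCoeff_mul, leadingCoeff_C, hlc, inv_mul_cancel₀ h0]
  · rw [rdual, natDegree_C_mul (inv_ne_zero h0), reverse_natDegree, ht, Nat.sub_zero]
  · rw [rdual, mul_coeff_zero, coeff_C_zero, coeff_reverse, revAt_le (Nat.zero_le _), Nat.sub_zero,
      hf.coeff_natDegree, mul_one]
    exact inv_ne_zero h0

theorem rdual_rdual {f : F[X]} (hf : f.Monic) (h0 : f.coeff 0 ≠ 0) : rdual (rdual f) = f := by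
  have ht : f.natTrailingDegree = 0 := natTrailingDegree_eq_zero.2 (Or.inr h0)
  have hrr : f.reverse.reverse = f := by
    refine Polynomial.ext fun k => ?_
    rw [coeff_reverse, coeff_reverse, reverse_natDegree, ht, Nat.sub_zero, revAt_invol]
  have hc : (rdual f).coeff 0 = (f.coeff 0)⁻¹ := by
    rw [rdual, mul_coeff_zero, coeff_C_zero, coeff_reverse, revAt_le (Nat.zero_le _), Nat.sub_zero,
      hf.coeff_natDegree, mul_one]
  rw [rdual, hc, inv_inv, rdual, reverse_mul_of_domain, reverse_C, hrr, ← mul_assoc, ← map_mul,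
    mul_inv_cancel₀ h0, map_one, one_mul]

theorem dual_rdual {r : ℕ} (hr : 0 < r) : Dual (rdual (F := F)) (r - 1) r := by
  refine ⟨rdual_mul, rdual_X_sub_one, fun f => rdual_monic, fun f => rdual_rdual, ?_⟩
  intro L _ _ a f ha hf
  have ha0 : a ≠ 0 := fun h => by rw [h, zero_pow hr.ne'] at ha; exact zero_ne_one ha
  letI := invertibleOfNonzero ha0
  have hinv : a ^ (r - 1) = ⅟ a := by
    rw [invOf_eq_inv]
    refine eq_inv_of_mul_eq_one_left ?_
    rw [← pow_succ, Nat.sub_add_cancel hr, ha]
  rw [rdual, map_mul, hinv, aeval_def (⅟ a) f.reverse,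
    (eval₂_reverse_eq_zero_iff (algebraMap F L) a f).2 (by rwa [← aeval_def]), mul_zero]

theorem dual_tdual {r q p k : ℕ} [Fact p.Prime] [CharP F p] (hr : 0 < r) (hq : q = p ^ k) (σ : F →+* F)
    (hσq : ∀ x, σ x = x ^ q) (hσ : ∀ x, σ (σ x) = x) : Dual (tdual σ) ((r - 1) * q) r := by
  have hdeg : ∀ f : F[X], (f.map σ).natDegree = f.natDegree := fun f => natDegree_map_eq_of_injective σ.injective f
  refine ⟨fun f g => by rw [tdual, tdual, tdual, Polynomial.map_mul, rdual_mul], ?_, fun f hf h0 => ?_,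
    fun f hf h0 => ?_, ?_⟩
  · rw [tdual, Polynomial.map_sub, Polynomial.map_X, Polynomial.map_C, map_one σ, rdual_X_sub_one]
  · obtain ⟨h1, h2, h3⟩ := rdual_monic (hf.map σ) (by rwa [coeff_map, _root_.map_ne_zero])
    exact ⟨h1, h2.trans (hdeg f), h3⟩
  · have e : (rdual (f.map σ)).map σ = rdual f := by
      rw [rdual, rdual, Polynomial.map_mul, Polynomial.map_C, coeff_map, map_inv₀ σ, hσ]
      congr 1
      refine Polynomial.ext fun j => ?_
      rw [coeff_map, coeff_reverse, coeff_reverse, hdeg, coeff_map, hσ]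
    rw [tdual, tdual, e, rdual_rdual hf h0]
  · intro L _ _ a f ha hf
    haveI : CharP L p := charP_of_injective_algebraMap (algebraMap F L).injective p
    have h1 : aeval (a ^ q) (f.map σ) = 0 := by
      have hφ : (iterateFrobenius L p k).comp (algebraMap F L) = (algebraMap F L).comp σ := by
        refine RingHom.ext fun x => ?_
        rw [RingHom.comp_apply, RingHom.comp_apply, iterateFrobenius_def, hσq, hq, map_pow]
      rw [aeval_def, eval₂_map, ← hφ, hq, ← iterateFrobenius_def, ← hom_eval₂, ← aeval_def, hf, map_zero]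
    have h2 := (dual_rdual (F := F) hr).root L (a ^ q) (f.map σ)
      (by rw [← pow_mul, mul_comm, pow_mul, ha, one_pow]) h1
    rwa [← pow_mul, mul_comm] at h2

theorem charpoly_inv_eq {ι : Type*} [Fintype ι] [DecidableEq ι] (M : Matrix ι ι F) (h : IsUnit M) :
    M⁻¹.charpoly = rdual M.charpoly := by
  have hd : M.det ≠ 0 := ((Matrix.isUnit_iff_isUnit_det _).1 h).ne_zero
  rw [Matrix.charpoly_inv M h, ← Matrix.reverse_charpoly, rdual, Ring.inverse_eq_inv']
  have e : (C ((-1 : F) ^ Fintype.card ι) : F[X]) = (-1) ^ Fintype.card ι := by simp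
  rw [← e, ← map_mul, Matrix.det_eq_sign_charpoly_coeff M, mul_inv, ← mul_assoc,
    mul_inv_cancel₀ (pow_ne_zero _ (by norm_num)), one_mul]

/-- Classes of elements of order `r`, through characteristic polynomials subject to a condition. -/
theorem card_classes_of [Fintype F] {p r N : ℕ} [Fact p.Prime] [CharP F p] (hr : r.Prime) (hrp : r ≠ p)
    {G : Type v} [Group G] (ι : G →* GL (Fin N) F) (hι : Function.Injective ι) (δ : F[X] → F[X]) (P : F[X] → Prop)
    (hconj : ∀ g h : G, orderOf g = r → orderOf h = r →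
      (ι g : Matrix (Fin N) (Fin N) F).charpoly = (ι h : Matrix (Fin N) (Fin N) F).charpoly → IsConj g h)
    (hdual : ∀ g : G, δ (ι g : Matrix (Fin N) (Fin N) F).charpoly = (ι g : Matrix (Fin N) (Fin N) F).charpoly)
    (hP : ∀ g : G, orderOf g = r → P (ι g : Matrix (Fin N) (Fin N) F).charpoly)
    (hex : ∀ f : F[X], f.Monic → f.natDegree = N → f.coeff 0 ≠ 0 →
      (∀ s, Irreducible s → s ∣ f → s ∣ X ^ r - 1) → δ f = f → P f →
      ∃ g : G, (orderOf g).Coprime p ∧ (ι g : Matrix (Fin N) (Fin N) F).charpoly = f) :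
    Nat.card {C : ConjClasses G // ∃ g : G, ConjClasses.mk g = C ∧ orderOf g = r} =
      Nat.card {f : F[X] // f.Monic ∧ f.natDegree = N ∧ (∀ s, Irreducible s → s ∣ f → s ∣ X ^ r - 1) ∧
        f ≠ (X - Polynomial.C 1) ^ N ∧ δ f = f ∧ P f} := by
  classical
  have hpr : r.Coprime p := (Nat.coprime_primes hr Fact.out).2 hrp
  have hordι : ∀ g, orderOf (ι g) = orderOf g := fun g => orderOf_injective ι hι g
  have hone : ((1 : GL (Fin N) F) : Matrix (Fin N) (Fin N) F).charpoly = (X - Polynomial.C 1) ^ N := by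
    rw [Units.val_one, Matrix.charpoly_one, Fintype.card_fin, map_one]
  have hprop : ∀ g : G, orderOf g = r →
      (ι g : Matrix (Fin N) (Fin N) F).charpoly.Monic ∧
      (ι g : Matrix (Fin N) (Fin N) F).charpoly.natDegree = N ∧
      (∀ s, Irreducible s → s ∣ (ι g : Matrix (Fin N) (Fin N) F).charpoly → s ∣ X ^ r - 1) ∧
      (ι g : Matrix (Fin N) (Fin N) F).charpoly ≠ (X - Polynomial.C 1) ^ N ∧
      δ (ι g : Matrix (Fin N) (Fin N) F).charpoly = (ι g : Matrix (Fin N) (Fin N) F).charpoly ∧
      P (ι g : Matrix (Fin N) (Fin N) F).charpoly := by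
    intro g hg
    have hc : (orderOf (ι g)).Coprime p := by rw [hordι, hg]; exact hpr
    refine ⟨Matrix.charpoly_monic _, by rw [Matrix.charpoly_natDegree_eq_dim, Fintype.card_fin], ?_, ?_, hdual g, hP g hg⟩
    · intro s hs hsd
      obtain ⟨a, ha, hsa⟩ := exists_mem_normalizedFactors_of_dvd (Matrix.charpoly_monic _).ne_zero hs hsd
      exact hsa.dvd.trans ((Cfsg.Agent.S2568.pow_eq_one_iff_factors (ι g) hc r).1
        (by rw [← map_pow, ← hg, pow_orderOf_eq_one, map_one]) a ha)
    · intro h
      have h1 : ι g ^ 1 = 1 := by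
        rw [Cfsg.Agent.S2568.pow_eq_one_iff_factors (ι g) hc, h]
        intro s hs
        have h2 := irreducible_of_normalized_factor _ hs
        have h3 := dvd_of_mem_normalizedFactors hs
        rw [pow_one, ← map_one (Polynomial.C (R := F))]
        exact h2.prime.dvd_of_dvd_pow h3
      rw [pow_one, ← map_one ι] at h1
      rw [hι h1, orderOf_one] at hg
      exact hr.ne_one hg.symm
  refine Nat.card_eq_of_bijective (fun c => ⟨_, hprop c.2.choose c.2.choose_spec.2⟩) ⟨?_, ?_⟩
  · intro c d h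
    refine Subtype.ext ?_
    rw [← c.2.choose_spec.1, ← d.2.choose_spec.1]
    exact ConjClasses.mk_eq_mk_iff_isConj.2
      (hconj _ _ c.2.choose_spec.2 d.2.choose_spec.2 (congrArg Subtype.val h))
  · rintro ⟨f, hfm, hfd, hff, hfne, hfδ, hfP⟩
    have h0 : f.coeff 0 ≠ 0 := by
      intro h
      have := hff X irreducible_X (X_dvd_iff.2 h)
      rw [X_dvd_iff] at this
      simp [coeff_X_pow, hr.ne_zero.symm] at this
    obtain ⟨g, hg, hgf⟩ := hex f hfm hfd h0 hff hfδ hfP
    have hgr : orderOf g = r := by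
      have hc : (orderOf (ι g)).Coprime p := by rwa [hordι]
      rw [← hordι]
      haveI := Fact.mk hr
      refine orderOf_eq_prime ?_ ?_
      · rw [Cfsg.Agent.S2568.pow_eq_one_iff_factors (ι g) hc, hgf]
        exact fun s hs => hff s (irreducible_of_normalized_factor _ hs) (dvd_of_mem_normalizedFactors hs)
      · intro h1
        rw [h1, hone] at hgf
        exact hfne hgf.symm
    refine ⟨⟨ConjClasses.mk g, g, rfl, hgr⟩, Subtype.ext ?_⟩
    have hs := Exists.choose_spec (show ∃ g' : G, ConjClasses.mk g' = ConjClasses.mk g ∧ orderOf g' = r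
      from ⟨g, rfl, hgr⟩)
    obtain ⟨y, hy⟩ := isConj_iff.1 (ConjClasses.mk_eq_mk_iff_isConj.1 hs.1)
    have e := congrArg (fun w : G => ((ι w : GL (Fin N) F) : Matrix (Fin N) (Fin N) F).charpoly) hy
    simp only [map_mul, map_inv, Units.val_mul] at e
    rw [Matrix.charpoly_mul_comm, ← mul_assoc, ← Units.val_mul, inv_mul_cancel, Units.val_one, one_mul] at e
    exact e.trans hgf

/-- Classes of elements of order `r`, through characteristic polynomials. -/
theorem card_classes [Fintype F] {p r N : ℕ} [Fact p.Prime] [CharP F p] (hr : r.Prime) (hrp : r ≠ p)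
    {G : Type v} [Group G] (ι : G →* GL (Fin N) F) (hι : Function.Injective ι) (δ : F[X] → F[X])
    (hconj : ∀ g h : G, orderOf g = r → orderOf h = r →
      (ι g : Matrix (Fin N) (Fin N) F).charpoly = (ι h : Matrix (Fin N) (Fin N) F).charpoly → IsConj g h)
    (hdual : ∀ g : G, δ (ι g : Matrix (Fin N) (Fin N) F).charpoly = (ι g : Matrix (Fin N) (Fin N) F).charpoly)
    (hex : ∀ f : F[X], f.Monic → f.natDegree = N → f.coeff 0 ≠ 0 →
      (∀ s, Irreducible s → s ∣ f → s ∣ X ^ r - 1) → δ f = f →
      ∃ g : G, (orderOf g).Coprime p ∧ (ι g : Matrix (Fin N) (Fin N) F).charpoly = f) :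
    Nat.card {C : ConjClasses G // ∃ g : G, ConjClasses.mk g = C ∧ orderOf g = r} =
      Nat.card {f : F[X] // f.Monic ∧ f.natDegree = N ∧ (∀ s, Irreducible s → s ∣ f → s ∣ X ^ r - 1) ∧
        f ≠ (X - Polynomial.C 1) ^ N ∧ δ f = f} := by
  rw [card_classes_of hr hrp ι hι δ (fun _ => True) hconj hdual (fun _ _ => trivial)
    (fun f a b c d e _ => hex f a b c d e)]
  exact Nat.card_congr (Equiv.subtypeEquivRight fun f => by simp only [and_true])

end Cfsg.Agent.DualCount
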