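import Cfsg.Agent.S2568

/-!
Counting self-dual polynomials all whose roots are `r`-th roots of unity.
-/

set_option autoImplicit false

namespace Cfsg.Agent.DualCount

open Polynomial UniqueFactorizationMonoid

universe u

variable {F : Type u} [Field F]

/-- Multisets invariant under a fixed point free involution, of bounded size. -/
theorem card_invariant_multiset {T : Type*} [Fintype T] (d : T → T) (hd : ∀ x, d (d x) = x)
    (hfree : ∀ x, d x ≠ x) (N : ℕ) :
    Nat.card {m : Multiset T // Multiset.card m ≤ N ∧ m.map d = m} =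
      (Fintype.card T / 2 + N / 2).choose (N / 2) := by
  classical
  let e := Fintype.equivFin T
  set T₁ := {x : T // e x < e (d x)} with hT₁
  have hsplit : ∀ x, e x < e (d x) ↔ ¬ e (d x) < e (d (d x)) := fun x => by
    rw [hd]
    have : e (d x) ≠ e x := fun h => hfree x (e.injective h)
    omega
  have hcard : Fintype.card T = 2 * Fintype.card T₁ := by
    have e2 : T₁ ≃ {x : T // ¬ e x < e (d x)} :=
      { toFun := fun x => ⟨d x.1, (hsplit x.1).1 x.2⟩
        invFun := fun x => ⟨d x.1, by
          have h := (hsplit x.1).not.1 x.2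
          rwa [not_not] at h⟩
        left_inv := fun x => Subtype.ext (hd _)
        right_inv := fun x => Subtype.ext (hd _) }
    have hs := Fintype.card_congr (Equiv.sumCompl fun x => e x < e (d x))
    rw [Fintype.card_sum, ← Fintype.card_congr e2] at hs
    change Fintype.card T₁ + Fintype.card T₁ = Fintype.card T at hs
    omega
  rw [show Fintype.card T / 2 = Fintype.card T₁ by omega, ← Cfsg.Agent.S2568.card_multiset_le]
  symm
  refine Nat.card_eq_of_bijective (fun m => (⟨m.1.map Subtype.val + (m.1.map Subtype.val).map d, ?_, ?_⟩ :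
    {m : Multiset T // Multiset.card m ≤ N ∧ m.map d = m})) ⟨?_, ?_⟩
  · simp only [Multiset.card_add, Multiset.card_map]
    have := m.2
    omega
  · rw [Multiset.map_add, Multiset.map_map (f := d), Multiset.map_congr rfl (fun x _ => show (d ∘ d) x = id x from hd x),
      Multiset.map_id, add_comm]
  · intro a b h
    have h' := congrArg (fun m : {m : Multiset T // Multiset.card m ≤ N ∧ m.map d = m} =>
      m.1.filter (fun x => e x < e (d x))) h
    have key : ∀ m : Multiset T₁, (m.map Subtype.val + (m.map Subtype.val).map d).filter (fun x => e x < e (d x)) =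
        m.map Subtype.val := by
      intro m
      rw [Multiset.filter_add, Multiset.filter_eq_self.2 (fun x hx => by
        obtain ⟨y, -, rfl⟩ := Multiset.mem_map.1 hx; exact y.2),
        Multiset.filter_eq_nil.2 (fun x hx => by
          obtain ⟨y, hy, rfl⟩ := Multiset.mem_map.1 hx
          obtain ⟨z, -, rfl⟩ := Multiset.mem_map.1 hy
          exact (hsplit z.1).1 z.2), add_zero]
    exact Subtype.ext (Multiset.map_injective Subtype.val_injective ((key a.1).symm.trans (h'.trans (key b.1))))
  · rintro ⟨m, hmN, hmd⟩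
    have hmem : ∀ x ∈ m.filter (fun x => e x < e (d x)), e x < e (d x) := fun x hx => (Multiset.mem_filter.1 hx).2
    set m₁ : Multiset T₁ := (m.filter (fun x => e x < e (d x))).attach.map (fun x => ⟨x.1, hmem x.1 x.2⟩) with hm₁
    have hv : m₁.map Subtype.val = m.filter (fun x => e x < e (d x)) := by
      rw [hm₁, Multiset.map_map]; exact Multiset.attach_map_val _
    have hother : (m.filter (fun x => e x < e (d x))).map d = m.filter (fun x => ¬ e x < e (d x)) := by
      conv_rhs => rw [← hmd]
      rw [Multiset.filter_map]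
      congr 1
      refine Multiset.filter_congr fun x _ => ?_
      exact hsplit x
    have htot : m₁.map Subtype.val + (m₁.map Subtype.val).map d = m := by
      rw [hv, hother, Multiset.filter_add_not]
    have hc := congrArg Multiset.card htot
    simp only [Multiset.card_add, Multiset.card_map] at hc
    exact ⟨⟨m₁, by omega⟩, Subtype.ext htot⟩

/-- The properties used of a duality of polynomials: it acts on roots as an exponentiation. -/
structure Dual (δ : F[X] → F[X]) (e r : ℕ) : Prop where
  mul : ∀ f g, δ (f * g) = δ f * δ g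
  fix : δ (X - C 1) = X - C 1
  monic : ∀ f : F[X], f.Monic → f.coeff 0 ≠ 0 →
    (δ f).Monic ∧ (δ f).natDegree = f.natDegree ∧ (δ f).coeff 0 ≠ 0
  invol : ∀ f : F[X], f.Monic → f.coeff 0 ≠ 0 → δ (δ f) = f
  root : ∀ (L : Type u) [Field L] [Algebra F L] (a : L) (f : F[X]),
    a ^ r = 1 → aeval a f = 0 → aeval (a ^ e) (δ f) = 0

/-- The number of self-dual polynomials, of degree `n`, other than `(X - 1) ^ n`, all whose roots are
`r`-th roots of unity. -/
theorem card_selfDual [Fintype F] {p n r i t e : ℕ} [Fact p.Prime] [CharP F p] (hr : r.Prime)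
    (hrp : r ≠ p) (hi : i = orderOf (Fintype.card F : ZMod r)) (ht : t * i = r - 1)
    (δ : F[X] → F[X]) (hδ : Dual δ e r) (he : (e : ZMod r) ≠ 0) :
    ((∃ k : ℕ, (e : ZMod r) = (Fintype.card F : ZMod r) ^ k) →
      Nat.card {f : F[X] // f.Monic ∧ f.natDegree = n ∧ (∀ s, Irreducible s → s ∣ f → s ∣ X ^ r - 1) ∧
        f ≠ (X - C 1) ^ n ∧ δ f = f} = (n / i + t).choose t - 1) ∧
    ((¬ ∃ k : ℕ, (e : ZMod r) = (Fintype.card F : ZMod r) ^ k) →
      Nat.card {f : F[X] // f.Monic ∧ f.natDegree = n ∧ (∀ s, Irreducible s → s ∣ f → s ∣ X ^ r - 1) ∧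
        f ≠ (X - C 1) ^ n ∧ δ f = f} = (n / (2 * i) + t / 2).choose (t / 2) - 1) := by
  classical
  haveI := Fact.mk hr
  have hrF : (r : F) ≠ 0 := by
    rw [Ne, CharP.cast_eq_zero_iff F p]
    intro hd
    exact hrp ((Nat.prime_dvd_prime_iff_eq Fact.out hr).1 hd).symm
  haveI : NeZero (r : F) := ⟨hrF⟩
  obtain ⟨E, -, hcardF⟩ := FiniteField.card F p
  have hpr : p.Coprime r := (Nat.coprime_primes Fact.out hr).2 (Ne.symm hrp)
  set T := (normalizedFactors (cyclotomic r F)).toFinset with hT
  have hTdvd : ∀ s ∈ T, s ∣ cyclotomic r F := fun s hs =>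
    dvd_of_mem_normalizedFactors (Multiset.mem_toFinset.1 hs)
  have hTirr : ∀ s ∈ T, Irreducible s := fun s hs =>
    irreducible_of_normalized_factor _ (Multiset.mem_toFinset.1 hs)
  have hTmon : ∀ s ∈ T, s.Monic := fun s hs => by
    rw [← normalize_normalized_factor _ (Multiset.mem_toFinset.1 hs)]
    exact monic_normalize (hTirr s hs).ne_zero
  have hTdeg : ∀ s ∈ T, s.natDegree = i := by
    intro s hs
    rw [natDegree_of_dvd_cyclotomic_of_irreducible hcardF hpr (hTdvd s hs) (hTirr s hs), ← orderOf_units,
      ZMod.coe_unitOfCoprime, hi, hcardF]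
  have hi0 : 0 < i := by
    rcases Nat.eq_zero_or_pos i with h0 | h0
    · rw [h0, mul_zero] at ht
      have := hr.two_le
      omega
    · exact h0
  have hcyc1 : ∀ s ∈ T, s ≠ X - C 1 := by
    intro s hs h
    have hd := hTdvd s hs
    rw [h, dvd_iff_isRoot, IsRoot, eval_one_cyclotomic_prime] at hd
    exact hrF hd
  have hTcard : T.card = t := by
    have hnodup : (normalizedFactors (cyclotomic r F)).Nodup :=
      (squarefree_iff_nodup_normalizedFactors (cyclotomic_ne_zero r F)).1 (squarefree_cyclotomic r F)
    have h := congrArg natDegree (prod_normalizedFactors_eq (cyclotomic_ne_zero r F))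
    rw [(cyclotomic.monic r F).normalize_eq_self, natDegree_cyclotomic, Nat.totient_prime hr] at h
    rw [natDegree_multiset_prod_of_monic _ (fun s hs => hTmon s (Multiset.mem_toFinset.2 hs)),
      Multiset.map_congr rfl (fun s hs => hTdeg s (Multiset.mem_toFinset.2 hs)), Multiset.map_const',
      Multiset.sum_replicate, smul_eq_mul] at h
    rw [hT, Multiset.toFinset_card_of_nodup hnodup]
    exact Nat.eq_of_mul_eq_mul_right hi0 (h.trans ht.symm)
  have hdvd : ∀ s : F[X], s.Monic → Irreducible s → (s ∣ X ^ r - 1 ↔ s = X - C 1 ∨ s ∈ T) := by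
    intro s hs hsi
    constructor
    · intro h
      rw [← cyclotomic_prime_mul_X_sub_one F r] at h
      rcases hsi.prime.dvd_or_dvd h with h | h
      · right
        rw [hT, Multiset.mem_toFinset, mem_normalizedFactors_iff' (cyclotomic_ne_zero r F)]
        exact ⟨hsi, hs.normalize_eq_self, h⟩
      · left
        rw [← map_one (C (R := F))] at h
        exact eq_of_monic_of_associated hs (monic_X_sub_C 1)
          (hsi.associated_of_dvd (irreducible_X_sub_C 1) h)
    · rintro (rfl | h)
      · rw [dvd_iff_isRoot]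
        simp
      · exact (hTdvd s h).trans (cyclotomic.dvd_X_pow_sub_one r F)
  have h0T : ∀ s ∈ T, s.coeff 0 ≠ 0 := by
    intro s hs h
    have h1 : (X : F[X]) ∣ X ^ r - 1 :=
      (X_dvd_iff.2 h).trans ((hdvd s (hTmon s hs) (hTirr s hs)).2 (Or.inr hs))
    rw [X_dvd_iff] at h1
    simp [coeff_X_pow, hr.ne_zero.symm] at h1
  -- `δ` acts on `T`
  have hδ1 : δ 1 = 1 := by
    have h := hδ.monic 1 monic_one (by simp)
    exact eq_one_of_monic_natDegree_zero h.1 (h.2.1.trans natDegree_one)
  have hroot : ∀ s ∈ T, aeval ((AdjoinRoot.root s) ^ e) (δ s) = 0 ∧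
      IsPrimitiveRoot (AdjoinRoot.root s) r := by
    intro s hs
    haveI := Fact.mk (hTirr s hs)
    have haev : aeval (AdjoinRoot.root s) s = 0 := by simp [AdjoinRoot.aeval_eq]
    obtain ⟨c, hc⟩ := hTdvd s hs
    have hprim : IsPrimitiveRoot (AdjoinRoot.root s) r := by
      haveI : NeZero (r : AdjoinRoot s) := NeZero.of_injective (AdjoinRoot.of s).injective
      rw [← isRoot_cyclotomic_iff, IsRoot, ← map_cyclotomic r (algebraMap F (AdjoinRoot s)), eval_map,
        ← aeval_def, hc, map_mul, haev, zero_mul]
    exact ⟨hδ.root _ _ s hprim.pow_eq_one haev, hprim⟩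
  have hδT : ∀ s ∈ T, δ s ∈ T := by
    intro s hs
    obtain ⟨hm, hd, hc0⟩ := hδ.monic s (hTmon s hs) (h0T s hs)
    have hirr : Irreducible (δ s) := by
      refine (Polynomial.irreducible_of_monic hm (fun h1 => ?_)).2 ?_
      · have := hd; rw [h1, natDegree_one, hTdeg s hs] at this; omega
      · intro g h hg hh hgh
        have hg0 : g.coeff 0 ≠ 0 := fun h0 => hc0 (by rw [← hgh, mul_coeff_zero, h0, zero_mul])
        have hh0 : h.coeff 0 ≠ 0 := fun h0 => hc0 (by rw [← hgh, mul_coeff_zero, h0, mul_zero])
        have h2 : δ g * δ h = s := by rw [← hδ.mul, hgh, hδ.invol s (hTmon s hs) (h0T s hs)]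
        rcases (hTirr s hs).isUnit_or_isUnit h2.symm with hu | hu
        · left
          refine eq_one_of_monic_natDegree_zero hg ?_
          rw [← (hδ.monic g hg hg0).2.1, natDegree_eq_zero_of_isUnit hu]
        · right
          refine eq_one_of_monic_natDegree_zero hh ?_
          rw [← (hδ.monic h hh hh0).2.1, natDegree_eq_zero_of_isUnit hu]
    obtain ⟨h1, hprim⟩ := hroot s hs
    haveI := Fact.mk (hTirr s hs)
    rw [hT, Multiset.mem_toFinset, mem_normalizedFactors_iff' (cyclotomic_ne_zero r F)]
    refine ⟨hirr, hm.normalize_eq_self, ?_⟩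
    have hec : e.Coprime r := by
      rw [Nat.coprime_comm, hr.coprime_iff_not_dvd, ← ZMod.natCast_eq_zero_iff]
      exact he
    have hp' := hprim.pow_of_coprime e hec
    rw [minpoly.eq_of_irreducible_of_monic hirr h1 hm]
    refine minpoly.dvd F _ ?_
    haveI : NeZero (r : AdjoinRoot s) := NeZero.of_injective (AdjoinRoot.of s).injective
    rw [aeval_def, ← eval_map, map_cyclotomic]
    exact isRoot_cyclotomic_iff.2 hp'
  let d : T → T := fun s => ⟨δ s.1, hδT _ s.2⟩
  have hd : ∀ s, d (d s) = s := fun s => Subtype.ext (hδ.invol _ (hTmon _ s.2) (h0T _ s.2))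
  have hfixiff : ∀ s : T, d s = s ↔ ∃ k : ℕ, (e : ZMod r) = (Fintype.card F : ZMod r) ^ k := by
    intro s
    obtain ⟨h1, hprim⟩ := hroot s.1 s.2
    haveI := Fact.mk (hTirr _ s.2)
    haveI : Module.Finite F (AdjoinRoot s.1) := (hTmon _ s.2).finite_adjoinRoot
    haveI : Finite (AdjoinRoot s.1) := Module.finite_of_finite F
    set a := AdjoinRoot.root s.1
    have hfrob : ∀ k : ℕ, ((FiniteField.frobeniusAlgHom F (AdjoinRoot s.1)) ^ k) a = a ^ (Fintype.card F ^ k) := by
      intro k
      induction k with
      | zero => simp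
      | succ k ih =>
          rw [pow_succ', AlgHom.mul_apply, ih, FiniteField.coe_frobeniusAlgHom]
          simp only [← pow_mul, ← pow_succ]
    have hmod : ∀ j j' : ℕ, a ^ j = a ^ j' ↔ (j : ZMod r) = (j' : ZMod r) := fun j j' => by
      have ha0 : a ≠ 0 := hprim.ne_zero hr.ne_zero
      have hou : orderOf a = orderOf (Units.mk0 a ha0) := (orderOf_units (y := Units.mk0 a ha0))
      rw [ZMod.natCast_eq_natCast_iff, hprim.eq_orderOf, hou, ← pow_eq_pow_iff_modEq, Units.ext_iff,
        Units.val_pow_eq_pow_val, Units.val_pow_eq_pow_val, Units.val_mk0]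
    constructor
    · intro hds
      have h2 : aeval (a ^ e) s.1 = 0 := by
        have : δ s.1 = s.1 := congrArg Subtype.val hds
        rwa [this] at h1
      let ψ : AdjoinRoot s.1 →ₐ[F] AdjoinRoot s.1 := AdjoinRoot.liftAlgHom s.1 (Algebra.ofId F _) (a ^ e) h2
      obtain ⟨k, hk⟩ := (FiniteField.bijective_frobeniusAlgHom_pow F (AdjoinRoot s.1)).2 ψ
      refine ⟨k, ?_⟩
      have h3 : a ^ (Fintype.card F ^ (k : ℕ)) = a ^ e := by
        rw [← hfrob]
        refine (DFunLike.congr_fun hk a).trans ?_
        exact AdjoinRoot.liftAlgHom_root _ _ _ h2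
      rw [← Nat.cast_pow]
      exact ((hmod _ _).1 h3).symm
    · rintro ⟨k, hk⟩
      have h3 : a ^ e = a ^ (Fintype.card F ^ k) := (hmod _ _).2 (by rw [hk, Nat.cast_pow])
      have h2 : aeval (a ^ e) s.1 = 0 := by
        rw [h3, ← hfrob, aeval_algHom_apply]
        simp [a, AdjoinRoot.aeval_eq]
      refine Subtype.ext ?_
      have hdT := hδT _ s.2
      change δ s.1 = s.1
      exact (minpoly.eq_of_irreducible_of_monic (hTirr _ hdT) h1 (hTmon _ hdT)).trans
        (minpoly.eq_of_irreducible_of_monic (hTirr _ s.2) h2 (hTmon _ s.2)).symm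
  -- polynomials and multisets
  set N := n / i with hN
  have hdegle : ∀ m : Multiset T, Multiset.card m ≤ N → i * Multiset.card m ≤ n := fun m hm =>
    (Nat.mul_le_mul_left i hm).trans (Nat.mul_div_le n i)
  set poly : Multiset T → F[X] := fun m =>
    (X - C 1) ^ (n - i * Multiset.card m) * (m.map Subtype.val).prod with hpoly
  have hfac : ∀ m : Multiset T, normalizedFactors (poly m) =
      Multiset.replicate (n - i * Multiset.card m) (X - C 1) + m.map Subtype.val := by
    intro m
    have e : poly m = (Multiset.replicate (n - i * Multiset.card m) (X - C 1) + m.map Subtype.val).prod := by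
      rw [Multiset.prod_add, Multiset.prod_replicate]
    rw [e, normalizedFactors_prod_eq]
    · rw [Multiset.map_add, Multiset.map_replicate, (monic_X_sub_C (1 : F)).normalize_eq_self,
        Multiset.map_map]
      congr 1
      exact Multiset.map_congr rfl fun s _ => (hTmon _ s.2).normalize_eq_self
    · intro a ha
      rcases Multiset.mem_add.1 ha with ha | ha
      · rw [Multiset.eq_of_mem_replicate ha]; exact irreducible_X_sub_C 1
      · obtain ⟨s, -, rfl⟩ := Multiset.mem_map.1 ha
        exact hTirr _ s.2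
  have hflt : ∀ m : Multiset T, (normalizedFactors (poly m)).filter (· ≠ X - C 1) =
      m.map Subtype.val := by
    intro m
    rw [hfac, Multiset.filter_add, Multiset.filter_eq_nil.2 (fun s hs h => h (Multiset.eq_of_mem_replicate hs)),
      zero_add, Multiset.filter_eq_self]
    intro s hs
    obtain ⟨a, -, rfl⟩ := Multiset.mem_map.1 hs
    exact hcyc1 _ a.2
  have hmonp : ∀ m, (poly m).Monic := fun m =>
    ((monic_X_sub_C 1).pow _).mul (monic_multiset_prod_of_monic _ _ fun s _ => hTmon _ s.2)
  have hδpow : ∀ k : ℕ, δ ((X - C 1) ^ k) = (X - C 1) ^ k := by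
    intro k
    induction k with
    | zero => rw [pow_zero, hδ1]
    | succ k ih => rw [pow_succ, hδ.mul, ih, hδ.fix]
  have hδprod : ∀ m : Multiset T, δ (m.map Subtype.val).prod = ((m.map d).map Subtype.val).prod := by
    intro m
    induction m using Multiset.induction with
    | empty => simp [hδ1]
    | cons a m ih => simp only [Multiset.map_cons, Multiset.prod_cons, hδ.mul, ih]; rfl
  have hδpoly : ∀ m : Multiset T, δ (poly m) = poly (m.map d) := by
    intro m
    simp only [hpoly, hδ.mul, hδpow, hδprod, Multiset.card_map]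
  have hpolyinj : Function.Injective poly := by
    intro a b h
    have e := congrArg (fun f => (normalizedFactors f).filter (· ≠ X - C 1)) h
    rw [hflt, hflt] at e
    exact Multiset.map_injective Subtype.val_injective e
  have hpoly0 : poly 0 = (X - C 1) ^ n := by simp [hpoly]
  have hbij : Nat.card {f : F[X] // f.Monic ∧ f.natDegree = n ∧ (∀ s, Irreducible s → s ∣ f → s ∣ X ^ r - 1) ∧
        f ≠ (X - C 1) ^ n ∧ δ f = f} =
      Nat.card {m : {m : Multiset T // Multiset.card m ≤ N ∧ m.map d = m} // m.1 ≠ 0} := by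
    symm
    refine Nat.card_eq_of_bijective (fun m => (⟨poly m.1.1, hmonp _, ?_, ?_, ?_, ?_⟩ :
      {f : F[X] // f.Monic ∧ f.natDegree = n ∧ (∀ s, Irreducible s → s ∣ f → s ∣ X ^ r - 1) ∧
        f ≠ (X - C 1) ^ n ∧ δ f = f})) ⟨?_, ?_⟩
    · rw [hpoly, Monic.natDegree_mul ((monic_X_sub_C 1).pow _)
        (monic_multiset_prod_of_monic _ _ fun s _ => hTmon _ s.2), natDegree_pow, natDegree_X_sub_C,
        mul_one, natDegree_multiset_prod_of_monic _ (fun s hs => by
          obtain ⟨a, -, rfl⟩ := Multiset.mem_map.1 hs; exact hTmon _ a.2), Multiset.map_map,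
        Multiset.map_congr rfl (fun (s : T) _ => show (natDegree ∘ Subtype.val) s = i from hTdeg _ s.2),
        Multiset.map_const', Multiset.sum_replicate, smul_eq_mul, mul_comm (Multiset.card m.1.1)]
      have := hdegle _ m.1.2.1
      omega
    · intro s hs hsd
      obtain ⟨a, ha, hsa⟩ := exists_mem_normalizedFactors_of_dvd (hmonp _).ne_zero hs hsd
      refine hsa.dvd.trans ?_
      rw [hfac] at ha
      rcases Multiset.mem_add.1 ha with ha | ha
      · rw [Multiset.eq_of_mem_replicate ha]
        exact (hdvd _ (monic_X_sub_C 1) (irreducible_X_sub_C 1)).2 (Or.inl rfl)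
      · obtain ⟨b, -, rfl⟩ := Multiset.mem_map.1 ha
        exact (hdvd _ (hTmon _ b.2) (hTirr _ b.2)).2 (Or.inr b.2)
    · rw [← hpoly0]
      exact fun h => m.2 (hpolyinj h)
    · rw [hδpoly, m.1.2.2]
    · intro a b h
      exact Subtype.ext (Subtype.ext (hpolyinj (congrArg Subtype.val h)))
    · rintro ⟨f, hfm, hfd, hff, hfne, hfδ⟩
      set K := normalizedFactors f with hK
      have hKirr : ∀ s ∈ K, Irreducible s := fun s hs => irreducible_of_normalized_factor _ hs
      have hKmon : ∀ s ∈ K, s.Monic := fun s hs => by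
        rw [← normalize_normalized_factor _ hs]; exact monic_normalize (hKirr s hs).ne_zero
      have hKT : ∀ s ∈ K.filter (· ≠ X - C 1), s ∈ T := by
        intro s hs
        rw [Multiset.mem_filter] at hs
        exact ((hdvd s (hKmon s hs.1) (hKirr s hs.1)).1
          (hff s (hKirr s hs.1) (dvd_of_mem_normalizedFactors hs.1))).resolve_left hs.2
      set m : Multiset T := (K.filter (· ≠ X - C 1)).attach.map fun s => ⟨s.1, hKT s.1 s.2⟩ with hm
      have hmv : m.map Subtype.val = K.filter (· ≠ X - C 1) := by
        rw [hm, Multiset.map_map]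
        exact Multiset.attach_map_val _
      have hKeq : Multiset.replicate (K.count (X - C 1)) (X - C 1) + m.map Subtype.val = K := by
        rw [hmv, ← Multiset.filter_eq']
        exact Multiset.filter_add_not _ K
      have hprod : K.prod = f := by
        rw [hK, prod_normalizedFactors_eq hfm.ne_zero, hfm.normalize_eq_self]
      have hdeg : n = K.count (X - C 1) + i * Multiset.card m := by
        rw [← hfd, ← hprod, natDegree_multiset_prod_of_monic _ hKmon]
        conv_lhs => rw [← hKeq]
        rw [Multiset.map_add, Multiset.sum_add, Multiset.map_replicate, natDegree_X_sub_C,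
          Multiset.sum_replicate, Multiset.map_map, Multiset.map_congr rfl (fun (s : T) _ => show (natDegree ∘ Subtype.val) s = i from hTdeg _ s.2),
          Multiset.map_const', Multiset.sum_replicate, smul_eq_mul, smul_eq_mul, mul_one,
          mul_comm (Multiset.card m)]
      have hmN : Multiset.card m ≤ N := by
        rw [hN, Nat.le_div_iff_mul_le hi0, mul_comm]
        omega
      have hpolym : poly m = f := by
        conv_rhs => rw [← hprod, ← hKeq]
        rw [Multiset.prod_add, Multiset.prod_replicate]
        show (X - C 1) ^ (n - i * Multiset.card m) * _ = _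
        rw [show n - i * Multiset.card m = K.count (X - C 1) by omega]
      have hmd : m.map d = m := hpolyinj (by rw [← hδpoly, hpolym, hfδ])
      refine ⟨⟨⟨m, hmN, hmd⟩, fun h => hfne ?_⟩, Subtype.ext hpolym⟩
      have h' : m = 0 := h
      rw [← hpolym, h', hpoly0]
  have hne : Nat.card {m : Multiset T // Multiset.card m ≤ N ∧ m.map d = m} ≠ 0 →
      Nat.card {m : {m : Multiset T // Multiset.card m ≤ N ∧ m.map d = m} // m.1 ≠ 0} =
      Nat.card {m : Multiset T // Multiset.card m ≤ N ∧ m.map d = m} - 1 := by
    intro h0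
    haveI := Nat.finite_of_card_ne_zero h0
    letI := Fintype.ofFinite {m : Multiset T // Multiset.card m ≤ N ∧ m.map d = m}
    rw [Nat.card_congr (Equiv.subtypeEquivRight
      (q := fun m : {m : Multiset T // Multiset.card m ≤ N ∧ m.map d = m} => m ≠ ⟨0, by simp, by simp⟩)
      fun m => ⟨fun h e => h (congrArg Subtype.val e), fun h e => h (Subtype.ext e)⟩),
      Nat.card_eq_fintype_card, Fintype.card_subtype_compl, Fintype.card_subtype_eq,
      ← Nat.card_eq_fintype_card]
  have htT : Fintype.card T = t := by rw [Fintype.card_coe, hTcard]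
  constructor
  · intro hex
    have hid : ∀ s, d s = s := fun s => (hfixiff s).2 hex
    have hc : Nat.card {m : Multiset T // Multiset.card m ≤ N ∧ m.map d = m} = (N + t).choose t := by
      rw [Nat.card_congr (Equiv.subtypeEquivRight (q := fun m : Multiset T => Multiset.card m ≤ N)
        fun m => and_iff_left (by rw [show d = id from funext hid, Multiset.map_id])),
        Cfsg.Agent.S2568.card_multiset_le, htT, add_comm N t, Nat.choose_symm_add]
    rw [hbij, hne (hc ▸ (Nat.choose_pos (Nat.le_add_left _ _)).ne'), hc]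
  · intro hex
    have hc : Nat.card {m : Multiset T // Multiset.card m ≤ N ∧ m.map d = m} =
        (n / (2 * i) + t / 2).choose (t / 2) := by
      rw [card_invariant_multiset d hd (fun s h => hex ((hfixiff s).1 h)), htT, hN, Nat.div_div_eq_div_mul,
        mul_comm i 2, add_comm (t / 2), Nat.choose_symm_add]
    rw [hbij, hne (hc ▸ (Nat.choose_pos (Nat.le_add_left _ _)).ne'), hc]

end Cfsg.Agent.DualCount
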