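import Cfsg.Agent.Classical.QuadTypes
import Cfsg.Agent.MatModule.SympPoly
import Cfsg.Agent.DualCount.Group

/-!
Fixed-point-free isometries of odd order: invariant forms, their type, and embeddings of quadratic spaces.
-/

set_option autoImplicit false

namespace Cfsg.Agent.DualCount

open Module QuadraticMap Cfsg.Agent.Classical Cfsg.Agent.Classical.Quad

universe u v w z

variable {F : Type u} [Field F]

section Emb

variable {U : Type v} [AddCommGroup U] [Module F U] {V : Type w} [AddCommGroup V] [Module F V]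

/-- One quadratic space embeds isometrically in another. -/
def Emb (Q : QuadraticForm F U) (Q' : QuadraticForm F V) : Prop :=
  ∃ e : U →ₗ[F] V, Function.Injective e ∧ ∀ x, Q' (e x) = Q x

theorem Emb.of_iso {Q : QuadraticForm F U} {Q' : QuadraticForm F V} (h : Iso Q Q') : Emb Q Q' := by
  obtain ⟨e, he⟩ := h
  exact ⟨e.toLinearMap, e.injective, he⟩

theorem Emb.trans {W : Type z} [AddCommGroup W] [Module F W] {Q : QuadraticForm F U}
    {Q' : QuadraticForm F V} {Q'' : QuadraticForm F W} (h : Emb Q Q') (h' : Emb Q' Q'') : Emb Q Q'' := by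
  obtain ⟨e, he, heq⟩ := h
  obtain ⟨e', he', heq'⟩ := h'
  exact ⟨e'.comp e, he'.comp he, fun x => by rw [LinearMap.comp_apply, heq', heq]⟩

theorem Emb.hyp {R : QuadraticForm F U} {R' : QuadraticForm F V} (h : Emb R R') (m : ℕ) :
    Emb (Quad.hyp R m) (Quad.hyp R' m) := by
  obtain ⟨e, he, heq⟩ := h
  refine ⟨LinearMap.prodMap LinearMap.id e, fun a b hab => ?_, fun x => ?_⟩
  · exact Prod.ext (congrArg Prod.fst hab :) (he (congrArg Prod.snd hab :))
  · simp [hyp_apply, heq]

theorem Emb.hypOne {R : QuadraticForm F U} {R' : QuadraticForm F V} (h : Emb R R') :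
    Emb (Quad.hypOne R) (Quad.hypOne R') := by
  obtain ⟨e, he, heq⟩ := h
  refine ⟨LinearMap.prodMap LinearMap.id e, fun a b hab => ?_, fun x => ?_⟩
  · exact Prod.ext (congrArg Prod.fst hab :) (he (congrArg Prod.snd hab :))
  · simp [hypOne_apply, heq]

theorem emb_hypSucc (R : QuadraticForm F U) (m : ℕ) : Emb (Quad.hypOne (Quad.hyp R m)) (Quad.hyp R (m + 1)) :=
  ⟨(hypSucc m).symm.toLinearMap, (hypSucc m).symm.injective, fun x => by
    rw [LinearEquiv.coe_coe, ← hypSucc_map R m, LinearEquiv.apply_symm_apply]⟩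

theorem emb_hypSucc' (R : QuadraticForm F U) (m : ℕ) : Emb (Quad.hyp R (m + 1)) (Quad.hypOne (Quad.hyp R m)) :=
  ⟨(hypSucc m).toLinearMap, (hypSucc m).injective, fun x => hypSucc_map R m x⟩

theorem emb_hyp_le (R : QuadraticForm F U) {m m' : ℕ} (h : m ≤ m') : Emb (Quad.hyp R m) (Quad.hyp R m') := by
  induction h with
  | refl => exact Emb.of_iso ⟨LinearEquiv.refl F _, fun x => rfl⟩
  | step h ih =>
    refine ih.trans (Emb.trans ?_ (emb_hypSucc R _))
    exact ⟨LinearMap.inr F (F × F) _, LinearMap.inr_injective, fun x => by simp [hypOne_apply]⟩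

end Emb

theorem emb_zeroForm {V : Type w} [AddCommGroup V] [Module F V] (R : QuadraticForm F V) :
    Emb (zeroForm F) R :=
  ⟨0, fun a b _ => Subsingleton.elim a b, fun x => by simp [zeroForm]⟩

theorem emb_bin_odd (a b : F) : Emb (binForm a b) (Quad.hyp (sqForm F) 1) := by
  let e : F × F →ₗ[F] ((Fin 1 → F) × (Fin 1 → F)) × F :=
    { toFun := fun z => ((fun _ => z.2, fun _ => a * z.1 + b * z.2), z.1)
      map_add' := fun x y => Prod.ext (Prod.ext rfl (funext fun _ => by simp; ring)) rfl
      map_smul' := fun c x => Prod.ext (Prod.ext rfl (funext fun _ => by simp; ring)) rfl }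
  refine ⟨e, fun x y h => ?_, fun x => ?_⟩
  · exact Prod.ext (congrArg Prod.snd h :) (congrFun (congrArg (fun p => p.1.1) h :) 0)
  · simp [e, hyp_apply, binForm_apply, sqForm]
    ring

theorem emb_bin_plus (a b : F) : Emb (binForm a b) (Quad.hyp (zeroForm F) 2) := by
  refine (emb_bin_odd a b).trans ((Emb.hyp (R' := Quad.hypOne (zeroForm F)) ?_ 1).trans ?_)
  · refine ⟨LinearMap.prod (LinearMap.prod LinearMap.id LinearMap.id) 0, fun x y h => ?_, fun x => ?_⟩
    · exact (congrArg (fun p => p.1.1) h :)
    · simp [hypOne_apply, sqForm, zeroForm]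
  · let e : ((Fin 1 → F) × (Fin 1 → F)) × ((F × F) × (Fin 0 → F)) →ₗ[F]
        ((Fin 2 → F) × (Fin 2 → F)) × (Fin 0 → F) :=
      { toFun := fun x => ((![x.1.1 0, x.2.1.1], ![x.1.2 0, x.2.1.2]), x.2.2)
        map_add' := fun x y => by
          refine Prod.ext (Prod.ext (funext fun i => ?_) (funext fun i => ?_)) rfl <;> fin_cases i <;> rfl
        map_smul' := fun c x => by
          refine Prod.ext (Prod.ext (funext fun i => ?_) (funext fun i => ?_)) rfl <;> fin_cases i <;> rfl }
    refine ⟨e, fun x y h => ?_, fun x => ?_⟩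
    · have h1 := congrArg (fun p => p.1.1) h
      have h2 := congrArg (fun p => p.1.2) h
      refine Prod.ext (Prod.ext (funext fun i => ?_) (funext fun i => ?_))
        (Prod.ext (Prod.ext (congrFun h1 1) (congrFun h2 1)) (Subsingleton.elim _ _))
      · rw [Subsingleton.elim i 0]; exact congrFun h1 0
      · rw [Subsingleton.elim i 0]; exact congrFun h2 0
    · simp [e, hyp_apply, hypOne_apply, zeroForm, Fin.sum_univ_two]

theorem emb_minus_plus (a b : F) (k : ℕ) : Emb (Quad.hyp (binForm a b) k) (Quad.hyp (zeroForm F) (k + 2)) := by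
  induction k with
  | zero =>
    refine Emb.trans ⟨LinearMap.snd F _ (F × F), fun x y h => Prod.ext (Subsingleton.elim _ _) h, fun x => ?_⟩
      (emb_bin_plus a b)
    simp [hyp_apply]
  | succ k ih => exact ((emb_hypSucc' _ k).trans (Emb.hypOne ih)).trans (emb_hypSucc _ _)

theorem emb_minus_odd (a b : F) (k : ℕ) : Emb (Quad.hyp (binForm a b) k) (Quad.hyp (sqForm F) (k + 1)) := by
  induction k with
  | zero =>
    refine Emb.trans ⟨LinearMap.snd F _ (F × F), fun x y h => Prod.ext (Subsingleton.elim _ _) h, fun x => ?_⟩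
      (emb_bin_odd a b)
    simp [hyp_apply]
  | succ k ih => exact ((emb_hypSucc' _ k).trans (Emb.hypOne ih)).trans (emb_hypSucc _ _)

/-- An isometry of an embedded non-degenerate space extends by the identity of its orthogonal. -/
theorem exists_extension {U : Type v} [AddCommGroup U] [Module F U] [FiniteDimensional F U]
    {V : Type w} [AddCommGroup V] [Module F V] [FiniteDimensional F V]
    {Qu : QuadraticForm F U} (hQu : (polarBilin Qu).Nondegenerate) {Q : QuadraticForm F V}
    (h : Emb Qu Q) (a : Module.End F U) (ha : ∀ x, Qu (a x) = Qu x) :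
    ∃ b : Module.End F V, (∀ x, Q (b x) = Q x) ∧ (∀ k : ℕ, a ^ k = 1 → b ^ k = 1) ∧
      b.charpoly = (Polynomial.X - 1) ^ (finrank F V - finrank F U) * a.charpoly := by
  obtain ⟨e, he, heq⟩ := h
  let π : V →ₗ[F] U := (LinearMap.BilinForm.toDual (polarBilin Qu) hQu).symm.toLinearMap.comp
    (((polarBilin Q).compl₂ e))
  have hπ : ∀ x y, polar Qu (π x) y = polar Q x (e y) := fun x y =>
    LinearMap.BilinForm.apply_toDual_symm_apply (hB := hQu) ((polarBilin Q).compl₂ e x) y
  have hπe : ∀ w, π (e w) = w := by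
    intro w
    refine sub_eq_zero.1 (eq_zero_of_polar hQu fun y => ?_)
    rw [polar_sub_left, hπ]
    simp only [polar, ← map_add, heq, sub_self]
  let b : Module.End F V := LinearMap.id + e.comp ((a - LinearMap.id).comp π)
  have hbapp : ∀ x, b x = x + e (a (π x) - π x) := fun x => rfl
  have hbπ : ∀ x, π (b x) = a (π x) := fun x => by rw [hbapp, map_add, hπe]; abel
  refine ⟨b, fun x => ?_, fun k hk => ?_, ?_⟩
  · have h1 := map_add' (Q := Qu) (π x) (a (π x) - π x)
    rw [add_sub_cancel, ha] at h1
    rw [hbapp, map_add' (Q := Q), heq, ← hπ]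
    linear_combination -h1
  · have hbk : ∀ j : ℕ, ∀ x, (b ^ j) x = x + e ((a ^ j) (π x) - π x) := by
      intro j
      induction j with
      | zero => intro x; simp
      | succ j ih =>
        intro x
        rw [pow_succ, Module.End.mul_apply, ih, hbπ, pow_succ, Module.End.mul_apply, hbapp, add_assoc,
          ← map_add]
        congr 2
        abel
    refine LinearMap.ext fun x => ?_
    rw [hbk, hk]
    simp
  · set Φ : V ≃ₗ[F] U × LinearMap.ker π :=
      { toFun := fun v => (π v, ⟨v - e (π v), by simp [hπe]⟩)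
        map_add' := fun a b => by ext <;> simp [sub_add_sub_comm]
        map_smul' := fun r a => by ext <;> simp [smul_sub]
        invFun := fun x => e x.1 + x.2
        left_inv := fun v => by simp
        right_inv := fun x => by
          have h : π (x.2 : V) = 0 := x.2.2
          ext <;> simp [hπe, h] } with hΦ
    have key : Φ.conj b = LinearMap.prodMap a (1 : Module.End F (LinearMap.ker π)) := by
      refine LinearMap.ext fun x => Φ.symm.injective ?_
      rw [LinearEquiv.conj_apply_apply, LinearEquiv.symm_apply_apply]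
      have h : π (x.2 : V) = 0 := x.2.2
      change b (e x.1 + x.2) = e (a x.1) + x.2
      rw [hbapp, map_add π, hπe, h, add_zero, map_sub]
      abel
    have hfr := Φ.finrank_eq
    rw [Module.finrank_prod] at hfr
    rw [← Φ.charpoly_conj b, key, LinearMap.charpoly_prodMap, LinearMap.charpoly_one, mul_comm, hfr,
      Nat.add_sub_cancel_left]

/-- The type of a space with a fixed-point-free isometry of prime order `r`, read off modulo `r`. -/
theorem pow_half_dim_eq [Fintype F] {V : Type w} [AddCommGroup V] [Module F V] [FiniteDimensional F V]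
    {Q : QuadraticForm F V} (hQ : (polarBilin Q).Nondegenerate) {l r : ℕ} (hr : r.Prime)
    (hrq : (Fintype.card F : ZMod r) ≠ 0) (hV : finrank F V = 2 * (l + 1))
    (a : Module.End F V) (ha : ∀ x, Q (a x) = Q x) (har : a ^ r = 1) (hfix : ∀ x, a x = x → x = 0) :
    (Iso (Quad.hyp (zeroForm F) (l + 1)) Q → (Fintype.card F : ZMod r) ^ (l + 1) = 1) ∧
      (∀ c d : F, (∀ z₁ z₂ : F, z₁ ^ 2 + c * z₁ * z₂ + d * z₂ ^ 2 = 0 → z₁ = 0 ∧ z₂ = 0) →
        Iso (Quad.hyp (binForm c d) l) Q → (Fintype.card F : ZMod r) ^ (l + 1) = -1) := by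
  classical
  haveI : Finite V := Module.finite_of_finite F
  haveI := Fintype.ofFinite V
  haveI := Fact.mk hr
  set q := Fintype.card F with hq
  set N := Nat.card {x : V // Q x = 1} with hN
  -- every nonzero level has the same size
  have hlev : ∀ c : F, c ≠ 0 → Nat.card {x : V // Q x = c} = N := by
    intro c hc
    obtain ⟨e, he⟩ := iso_smul_even hQ hV (inv_ne_zero hc)
    refine Nat.card_congr (e.toEquiv.subtypeEquiv fun x => ?_)
    change Q x = c ↔ Q (e x) = 1
    rw [he, QuadraticMap.smul_apply, smul_eq_mul, inv_mul_eq_one₀ hc, eq_comm]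
  have htot : q ^ (2 * (l + 1)) = zcard Q + (q - 1) * N := by
    have h := (Nat.card_congr (Equiv.sigmaFiberEquiv (fun x : V => Q x))).symm
    rw [Module.natCard_eq_pow_finrank (K := F) (V := V), hV, Nat.card_eq_fintype_card (α := F),
      Nat.card_sigma, ← Finset.add_sum_erase _ _ (Finset.mem_univ (0 : F)),
      Finset.sum_congr rfl (fun c hc => hlev c (Finset.mem_erase.1 hc).1), Finset.sum_const,
      Finset.card_erase_of_mem (Finset.mem_univ _), Finset.card_univ, smul_eq_mul] at h
    exact h
  -- the level one set is a union of free orbits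
  have hmod : (N : ZMod r) = 0 := by
    have hinv : a * a ^ (r - 1) = 1 := by rw [← pow_succ', Nat.sub_add_cancel hr.one_le, har]
    have hinv' : a ^ (r - 1) * a = 1 := by rw [← pow_succ, Nat.sub_add_cancel hr.one_le, har]
    have hpowQ : ∀ (j : ℕ) x, Q ((a ^ j) x) = Q x := by
      intro j
      induction j with
      | zero => intro x; rfl
      | succ j ih => intro x; rw [pow_succ', Module.End.mul_apply, ha, ih]
    let σ : Equiv.Perm {x : V // Q x = 1} :=
      { toFun := fun x => ⟨a x.1, by rw [ha, x.2]⟩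
        invFun := fun x => ⟨(a ^ (r - 1)) x.1, by rw [hpowQ, x.2]⟩
        left_inv := fun x => Subtype.ext (LinearMap.congr_fun hinv' x.1)
        right_inv := fun x => Subtype.ext (LinearMap.congr_fun hinv x.1) }
    have hσ : ∀ (j : ℕ) x, ((σ ^ j) x).1 = (a ^ j) x.1 := by
      intro j
      induction j with
      | zero => intro x; rfl
      | succ j ih =>
        intro x
        rw [pow_succ', Equiv.Perm.mul_apply, pow_succ', Module.End.mul_apply, ← ih]
        rfl
    have h := Equiv.Perm.card_compl_support_modEq (p := r) (n := 1) (σ := σ)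
      (Equiv.ext fun x => Subtype.ext (by rw [pow_one, hσ, har]; rfl))
    have hsupp : σ.supportᶜ = ∅ := by
      refine Finset.eq_empty_of_forall_notMem fun x hx => ?_
      rw [Finset.mem_compl, Equiv.Perm.mem_support, not_not] at hx
      have := hfix x.1 (congrArg Subtype.val hx)
      have h1 := x.2
      rw [this, map_zero] at h1
      exact zero_ne_one h1
    rw [hsupp, Finset.card_empty, ← Nat.card_eq_fintype_card, ← ZMod.natCast_eq_natCast_iff,
      Nat.cast_zero] at h
    exact h.symm
  have hq1 : 1 < q := Fintype.one_lt_card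
  have hqsub : ((q - 1 : ℕ) : ℤ) = (q : ℤ) - 1 := by rw [Nat.cast_sub hq1.le, Nat.cast_one]
  have hq0 : (q : ℤ) - 1 ≠ 0 := by have : (1 : ℤ) < q := by exact_mod_cast hq1
                                   omega
  have hpl : (q : ZMod r) ^ l ≠ 0 := pow_ne_zero _ hrq
  constructor
  · intro hiso
    have hz := zcard_plus (F := F) rfl l
    rw [hiso.zcard_eq] at hz
    have e : (N : ℤ) = (q : ℤ) ^ (2 * l + 1) - (q : ℤ) ^ l := by
      refine mul_left_cancel₀ hq0 ?_
      have h1 := congrArg (fun x : ℕ => (x : ℤ)) htot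
      have h2 := congrArg (fun x : ℕ => (x : ℤ)) hz
      push_cast [hqsub] at h1 h2
      linear_combination -h1 - h2
    have e' := congrArg (fun x : ℤ => (x : ZMod r)) e
    push_cast at e'
    rw [hmod] at e'
    refine mul_left_cancel₀ hpl ?_
    linear_combination -e'
  · intro c d hcd hiso
    have hz := zcard_minus hcd (rfl : Fintype.card F = q) l
    rw [hiso.zcard_eq] at hz
    have e : (N : ℤ) = (q : ℤ) ^ (2 * l + 1) + (q : ℤ) ^ l := by
      refine mul_left_cancel₀ hq0 ?_
      have h1 := congrArg (fun x : ℕ => (x : ℤ)) htot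
      have h2 := congrArg (fun x : ℕ => (x : ℤ)) hz
      push_cast [hqsub] at h1 h2
      linear_combination -h1 - h2
    have e' := congrArg (fun x : ℤ => (x : ZMod r)) e
    push_cast at e'
    rw [hmod] at e'
    refine mul_left_cancel₀ hpl ?_
    linear_combination -e'

end Cfsg.Agent.DualCount
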