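import Cfsg.Agent.DualCount.Orth
import Cfsg.Agent.MatModule.OrthConj
import Cfsg.Prelude.Def_ClassicalGeometry

/-!
Classes of elements of odd prime order in orthogonal groups.
-/

set_option autoImplicit false

namespace Cfsg.Agent.DualCount

open Module Polynomial Cfsg.Agent.Classical

universe u v

variable {F : Type u} [Field F]

theorem apply_eq_smul_imp_root {V : Type v} [AddCommGroup V] [Module F V] [FiniteDimensional F V]
    (φ : Module.End F V) {x : V} {μ : F} (hx : φ x = μ • x) (h0 : x ≠ 0) : φ.charpoly.IsRoot μ := by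
  rw [← Module.End.hasEigenvalue_iff_isRoot_charpoly]
  exact Module.End.hasEigenvalue_of_hasEigenvector ⟨Module.End.mem_eigenspace_iff.2 hx, h0⟩

theorem pow_eq_one_of_roots {V : Type v} [AddCommGroup V] [Module F V] [FiniteDimensional F V]
    (φ : Module.End F V) {M r : ℕ} (hM : (M : F) ≠ 0) (hpow : φ ^ M = 1)
    (hf : ∀ s, Irreducible s → s ∣ φ.charpoly → s ∣ X ^ r - 1) : φ ^ r = 1 := by
  classical
  have hsep : (X ^ M - Polynomial.C (1 : F)).Separable := separable_X_pow_sub_C 1 hM one_ne_zero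
  have hann : aeval φ (X ^ M - Polynomial.C (1 : F)) = 0 := by
    rw [map_sub, map_pow, aeval_X, aeval_C, map_one, hpow, sub_self]
  set h := EuclideanDomain.gcd φ.charpoly (X ^ M - Polynomial.C (1 : F)) with hh
  have hha : aeval φ h = 0 := by
    rw [hh, EuclideanDomain.gcd_eq_gcd_ab, map_add, map_mul, map_mul, LinearMap.aeval_self_charpoly, hann,
      zero_mul, zero_mul, add_zero]
  have hsq : Squarefree h := hsep.squarefree.squarefree_of_dvd (EuclideanDomain.gcd_dvd_right _ _)
  have hprod : φ.charpoly ∣ (X ^ r - 1) ^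
      Multiset.card (UniqueFactorizationMonoid.normalizedFactors φ.charpoly) := by
    have hne : φ.charpoly ≠ 0 := φ.charpoly_monic.ne_zero
    refine (UniqueFactorizationMonoid.prod_normalizedFactors hne).symm.dvd.trans ?_
    have := Multiset.prod_dvd_prod_of_dvd (S := UniqueFactorizationMonoid.normalizedFactors φ.charpoly)
      id (fun _ => (X ^ r - 1 : F[X])) (fun s hs =>
        hf s (UniqueFactorizationMonoid.irreducible_of_normalized_factor _ hs)
          (UniqueFactorizationMonoid.dvd_of_mem_normalizedFactors hs))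
    rwa [Multiset.map_id, Multiset.map_const', Multiset.prod_replicate] at this
  obtain ⟨c, hc⟩ := hsq.isRadical _ _ ((EuclideanDomain.gcd_dvd_left _ _).trans hprod)
  have e := congrArg (aeval φ) hc
  rwa [map_mul, hha, zero_mul, map_sub, map_pow, aeval_X, map_one, sub_eq_zero] at e

theorem natDegree_even {g : F[X]} (hpal : ∀ j ≤ g.natDegree, g.coeff (g.natDegree - j) = g.coeff j)
    (h : g.eval (-1) ≠ 0) : Even g.natDegree := by
  by_contra hodd
  rw [Nat.not_even_iff_odd] at hodd
  apply h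
  rw [eval_eq_sum_range]
  refine Finset.sum_involution (fun j _ => g.natDegree - j) (fun j hj => ?_) (fun j hj _ => ?_)
    (fun j hj => Finset.mem_range.2 (by omega)) (fun j hj => ?_)
  · rw [Finset.mem_range] at hj
    rw [hpal j (by omega), ← mul_add]
    rcases Nat.even_or_odd j with he | ho
    · have : Odd (g.natDegree - j) := Nat.Odd.sub_even (by omega) hodd he
      rw [he.neg_one_pow, this.neg_one_pow, add_neg_cancel, mul_zero]
    · have : Even (g.natDegree - j) := Nat.Odd.sub_odd hodd ho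
      rw [ho.neg_one_pow, this.neg_one_pow, neg_add_cancel, mul_zero]
  · rw [Finset.mem_range] at hj
    obtain ⟨u, hu⟩ := hodd
    omega
  · rw [Finset.mem_range] at hj
    omega

theorem eval_one_reverse (g : F[X]) : g.reverse.eval 1 = g.eval 1 := by
  haveI : Invertible (1 : F) := invertibleOne
  have h := eval₂_reverse_mul_pow (RingHom.id F) (1 : F) g
  rw [one_pow, mul_one, invOf_one] at h
  exact h

variable [Fintype F]

/-- A fixed-point-free isometry with given palindromic characteristic polynomial. -/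
theorem exists_fpf_isometry {p : ℕ} [Fact p.Prime] [CharP F p] {r l : ℕ} (g : F[X]) (hg : g.Monic)
    (hdeg : g.natDegree = 2 * l) (hpal : ∀ j ≤ 2 * l, g.coeff (2 * l - j) = g.coeff j)
    (h0 : g.coeff 0 = 1) (h1 : g.eval 1 ≠ 0) (hn : g.eval (-1) ≠ 0)
    (hf : ∀ s, Irreducible s → s ∣ g → s ∣ X ^ r - 1) :
    ∃ (a : Module.End F (Fin l ⊕ Fin l → F)) (Q : QuadraticForm F (Fin l ⊕ Fin l → F)),
      (QuadraticMap.polarBilin Q).Nondegenerate ∧ (∀ x, Q (a x) = Q x) ∧ a.charpoly = g ∧ a ^ r = 1 ∧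
        (∀ x, a x = x → x = 0) := by
  classical
  rcases Nat.eq_zero_or_pos l with rfl | hl
  · refine ⟨1, 0, Classical.Quad.nondeg_of fun x _ => Subsingleton.elim _ _, fun x => rfl, ?_, one_pow r,
      fun x _ => Subsingleton.elim _ _⟩
    rw [eq_one_of_monic_natDegree_zero hg (by rw [hdeg]), LinearMap.charpoly_one]
    simp
  obtain ⟨A₀, hA₀⟩ := Cfsg.Agent.SympConj.exists_charpoly hl g hg hdeg hpal h0
  have hord : 0 < orderOf A₀ := orderOf_pos A₀
  set A := A₀ ^ (Fintype.card F ^ orderOf A₀) with hA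
  obtain ⟨e, k, hk, hek⟩ := Nat.exists_eq_pow_mul_and_not_dvd hord.ne' p (Fact.out : p.Prime).ne_one
  have hAk : A ^ k = 1 := by
    rw [hA, ← pow_mul, ← orderOf_dvd_iff_pow_eq_one]
    obtain ⟨E, -, hE⟩ := FiniteField.card F p
    conv_lhs => rw [hek]
    refine Nat.mul_dvd_mul_right ?_ k
    rw [hE, ← pow_mul]
    refine pow_dvd_pow p ?_
    have hk0 : 0 < k := Nat.pos_of_ne_zero fun h => hk (h ▸ dvd_zero p)
    calc e ≤ p ^ e := (Nat.lt_pow_self (Fact.out : p.Prime).one_lt).le
      _ ≤ orderOf A₀ := hek ▸ Nat.le_mul_of_pos_right _ hk0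
      _ ≤ (E : ℕ) * orderOf A₀ := Nat.le_mul_of_pos_left _ E.pos
  have hAc : A.1.charpoly = g := by
    have e : ∀ j : ℕ, (A₀.1 ^ (Fintype.card F ^ j)).charpoly = A₀.1.charpoly := by
      intro j
      induction j with
      | zero => rw [pow_zero, pow_one]
      | succ j ih => rw [pow_succ, pow_mul, FiniteField.Matrix.charpoly_pow_card, ih]
    rw [hA, SubmonoidClass.coe_pow, e, hA₀]
  set a : Module.End F (Fin l ⊕ Fin l → F) := Matrix.toLin' A.1 with ha
  have hac : a.charpoly = g := by rw [ha, Matrix.charpoly_toLin', hAc]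
  have har : a ^ r = 1 := by
    refine pow_eq_one_of_roots a (M := k) (fun h => hk ((CharP.cast_eq_zero_iff F p k).1 h)) ?_ (hac ▸ hf)
    rw [ha, ← Matrix.toLin'_pow, ← SubmonoidClass.coe_pow, hAk, OneMemClass.coe_one, Matrix.toLin'_one]
    rfl
  set B := sympB l F with hB
  have hpres : ∀ x y, B (a x) (a y) = B x y := fun x y => (mem_symplectic_iff A.1).1 A.2 x y
  set Bm : LinearMap.BilinMap F (Fin l ⊕ Fin l → F) F := B.comp a LinearMap.id with hBm
  have hBmapp : ∀ x y, Bm x y = B (a x) y := fun x y => rfl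
  have hfix1 : ∀ x, a x = x → x = 0 := fun x hx => by
    by_contra h
    have := apply_eq_smul_imp_root a (μ := 1) (by rw [one_smul]; exact hx) h
    rw [hac] at this
    exact h1 this
  refine ⟨a, Bm.toQuadraticMap, Classical.Quad.nondeg_of fun x hx => ?_, fun x => ?_, hac, har, hfix1⟩
  · have h2 : ∀ y, B (a (a x) - x) y = 0 := by
      intro y
      obtain ⟨z, rfl⟩ : ∃ z, a z = y := LinearMap.injective_iff_surjective.1
        (fun u v huv => sub_eq_zero.1 (sympB_nondeg.1 _ fun w => by
          rw [map_sub, LinearMap.sub_apply, ← hB, ← hpres u w, ← hpres v w, huv, sub_self])) y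
      have := hx z
      rw [LinearMap.BilinMap.polar_toQuadraticMap, hBmapp, hBmapp, Alt.neg' (sympB_isAlt (m := l)) x (a z)] at this
      rw [map_sub, LinearMap.sub_apply, hpres]
      linear_combination this
    have h3 : a (a x) - x = 0 := sympB_nondeg.1 _ h2
    have h4 : a x + x = 0 := hfix1 _ (by rw [map_add, sub_eq_zero.1 h3, add_comm])
    by_contra h
    have := apply_eq_smul_imp_root a (μ := -1) (by rw [neg_one_smul]; exact eq_neg_of_add_eq_zero_left h4) h
    rw [hac] at this
    exact hn this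
  · change Bm (a x) (a x) = Bm x x
    rw [hBmapp, hBmapp, hpres]

/-- Self-dual polynomials divisible by `X - 1` correspond to those of degree one less. -/
theorem card_with_factor {r n : ℕ} (δ : F[X] → F[X]) {e : ℕ} (hδ : Dual δ e r) :
    Nat.card {f : F[X] // f.Monic ∧ f.natDegree = n + 1 ∧ (∀ s, Irreducible s → s ∣ f → s ∣ X ^ r - 1) ∧
      f ≠ (X - Polynomial.C 1) ^ (n + 1) ∧ δ f = f ∧ (X - Polynomial.C 1) ∣ f} =
    Nat.card {f : F[X] // f.Monic ∧ f.natDegree = n ∧ (∀ s, Irreducible s → s ∣ f → s ∣ X ^ r - 1) ∧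
      f ≠ (X - Polynomial.C 1) ^ n ∧ δ f = f} := by
  classical
  have hL : (X - Polynomial.C (1 : F)) ≠ 0 := X_sub_C_ne_zero 1
  symm
  refine Nat.card_eq_of_bijective (fun f => (⟨(X - Polynomial.C 1) * f.1,
    (monic_X_sub_C 1).mul f.2.1, ?_, ?_, ?_, ?_, dvd_mul_right _ _⟩ :
    {f : F[X] // f.Monic ∧ f.natDegree = n + 1 ∧ (∀ s, Irreducible s → s ∣ f → s ∣ X ^ r - 1) ∧
      f ≠ (X - Polynomial.C 1) ^ (n + 1) ∧ δ f = f ∧ (X - Polynomial.C 1) ∣ f})) ⟨?_, ?_⟩
  · rw [(monic_X_sub_C 1).natDegree_mul f.2.1, natDegree_X_sub_C, f.2.2.1, add_comm]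
  · intro s hs hsd
    rcases hs.prime.dvd_or_dvd hsd with h | h
    · refine h.trans ?_
      rw [dvd_iff_isRoot]
      simp
    · exact f.2.2.2.1 s hs h
  · intro h
    rw [pow_succ'] at h
    exact f.2.2.2.2.1 (mul_left_cancel₀ hL h)
  · rw [hδ.mul, hδ.fix, f.2.2.2.2.2]
  · intro a b h
    exact Subtype.ext (mul_left_cancel₀ hL (congrArg Subtype.val h))
  · rintro ⟨f, hfm, hfd, hff, hfne, hfδ, g, rfl⟩
    have hgm : g.Monic := (monic_X_sub_C 1).of_mul_monic_left hfm
    refine ⟨⟨g, hgm, ?_, fun s hs h => hff s hs (h.mul_left _), fun h => hfne (by rw [h, pow_succ']), ?_⟩, rfl⟩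
    · rw [(monic_X_sub_C 1).natDegree_mul hgm, natDegree_X_sub_C] at hfd
      omega
    · rw [hδ.mul, hδ.fix] at hfδ
      exact mul_left_cancel₀ hL hfδ

/-- Classes of elements of odd prime order in an orthogonal group. -/
theorem card_orth_classes {p r N : ℕ} [Fact p.Prime] [CharP F p] (hr : r.Prime) (hr2 : r ≠ 2) (hrp : r ≠ p)
    {ι : Type} [Fintype ι] [DecidableEq ι] (hN : Fintype.card ι = N) (Q : QuadraticForm F (ι → F))
    (Qf : (ι → F) → F) (hQf : ∀ x, Q x = Qf x) (hQ : (QuadraticMap.polarBilin Q).Nondegenerate)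
    (P : F[X] → Prop)
    (hP : ∀ b : Module.End F (ι → F), (∀ x, Q (b x) = Q x) → b ^ r = 1 → P b.charpoly)
    (hemb : ∀ (l : ℕ) (a : Module.End F (Fin l ⊕ Fin l → F)) (Ql : QuadraticForm F (Fin l ⊕ Fin l → F)),
      (QuadraticMap.polarBilin Ql).Nondegenerate → (∀ x, Ql (a x) = Ql x) → a ^ r = 1 →
      (∀ x, a x = x → x = 0) → 2 * l ≤ N → P ((X - Polynomial.C 1) ^ (N - 2 * l) * a.charpoly) → Emb Ql Q) :
    Nat.card {C : ConjClasses ↥(Cfsg.isometryGroup F Qf) //
      ∃ g : ↥(Cfsg.isometryGroup F Qf), ConjClasses.mk g = C ∧ orderOf g = r} =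
    Nat.card {f : F[X] // f.Monic ∧ f.natDegree = N ∧ (∀ s, Irreducible s → s ∣ f → s ∣ X ^ r - 1) ∧
      f ≠ (X - Polynomial.C 1) ^ N ∧ rdual f = f ∧ P f} := by
  classical
  subst hN
  have hpr : r.Coprime p := (Nat.coprime_primes hr Fact.out).2 hrp
  have hmem : ∀ g : GL ι F, g ∈ Cfsg.isometryGroup F Qf ↔ ∀ x, Q (Matrix.mulVec g.1 x) = Q x := by
    intro g
    constructor
    · intro hg x
      rw [hQf, hQf]; exact hg x x
    · intro hg x _
      have := hg x
      rw [hQf, hQf] at this
      exact this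
  set R := Matrix.reindexAlgEquiv F F (Fintype.equivFin ι) with hR
  set ρ : ↥(Cfsg.isometryGroup F Qf) →* GL (Fin (Fintype.card ι)) F :=
    (Units.map R.toMulEquiv.toMonoidHom).comp (Cfsg.isometryGroup F Qf).subtype with hρ
  have hρinj : Function.Injective ρ := fun a b h =>
    Subtype.ext (Units.ext (R.injective (congrArg Units.val h)))
  have hρc : ∀ g, (ρ g : Matrix (Fin (Fintype.card ι)) (Fin (Fintype.card ι)) F).charpoly =
      (Matrix.toLin' g.1.1).charpoly := fun g => by
    change (R g.1.1).charpoly = _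
    rw [hR, Matrix.reindexAlgEquiv_apply, Matrix.charpoly_reindex, Matrix.charpoly_toLin']
  have hpow : ∀ g : ↥(Cfsg.isometryGroup F Qf), orderOf g = r → Matrix.toLin' g.1.1 ^ r = 1 := by
    intro g hg
    rw [← Matrix.toLin'_pow, ← Units.val_pow_eq_pow_val, ← SubmonoidClass.coe_pow, ← hg,
      pow_orderOf_eq_one, OneMemClass.coe_one, Units.val_one, Matrix.toLin'_one]
    rfl
  have hrF : (r : F) ≠ 0 := fun h => hrp ((Nat.prime_dvd_prime_iff_eq Fact.out hr).1
    ((CharP.cast_eq_zero_iff F p r).1 h)).symm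
  have hodd : Odd r := hr.odd_of_ne_two hr2
  refine card_classes_of hr hrp ρ hρinj rdual P ?_ ?_ (fun g hg => ?_) ?_
  · intro g h hg hh hc
    rw [hρc, hρc] at hc
    have hann : ∀ g : ↥(Cfsg.isometryGroup F Qf), orderOf g = r →
        aeval (Matrix.toLin' g.1.1) (X ^ r - Polynomial.C (1 : F)) = 0 := fun g hg => by
      rw [map_sub, map_pow, aeval_X, aeval_C, map_one, hpow g hg, sub_self]
    have hsq : Squarefree (X ^ r - Polynomial.C (1 : F)) := (separable_X_pow_sub_C 1 hrF one_ne_zero).squarefree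
    obtain ⟨Φ, hΦ⟩ := Cfsg.Agent.MatModule.exists_conj_of_charpoly_eq _ _ hsq (hann g hg) hsq (hann h hh) hc
    have hneg : ∀ x, Matrix.toLin' g.1.1 x = -x → Matrix.toLin' g.1.1 x = x := by
      intro x hx
      have hk : ∀ j : ℕ, (Matrix.toLin' g.1.1 ^ j) x = ((-1 : F) ^ j) • x := by
        intro j
        induction j with
        | zero => simp
        | succ j ih =>
            rw [pow_succ', Module.End.mul_apply, ih, map_smul, hx, smul_neg, pow_succ', neg_one_mul, neg_smul]
      have h1 := hk r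
      rw [hpow g hg, Module.End.one_apply, hodd.neg_one_pow, neg_one_smul] at h1
      rw [hx, ← h1]
    obtain ⟨U, hU, hUA⟩ := Cfsg.Agent.SympConj.exists_isometry_conj hQ
      (a := Matrix.toLin' g.1.1) (b := Matrix.toLin' h.1.1)
      (fun x => (hmem g.1).1 g.2 x) (fun x => (hmem h.1).1 h.2 x) hsq (hann g hg) hneg Φ hΦ
    let M : GL ι F := ⟨LinearMap.toMatrix' U.toLinearMap, LinearMap.toMatrix' U.symm.toLinearMap,
      by rw [← LinearMap.toMatrix'_comp]; simp, by rw [← LinearMap.toMatrix'_comp]; simp⟩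
    have hM : ∀ x, Matrix.mulVec M.1 x = U x := fun x => LinearMap.toMatrix'_mulVec U.toLinearMap x
    refine isConj_iff.2 ⟨⟨M, (hmem M).2 fun x => by rw [hM]; exact hU x⟩, ?_⟩
    rw [mul_inv_eq_iff_eq_mul]
    refine Subtype.ext (Units.ext (Matrix.ext_of_mulVec_single fun i => ?_))
    simp only [Subgroup.coe_mul, Units.val_mul, ← Matrix.mulVec_mulVec, hM]
    exact hUA _
  · intro g
    rw [hρc, Matrix.charpoly_toLin']
    set M := g.1.1 with hM
    set G : Matrix ι ι F := LinearMap.BilinForm.toMatrix' (QuadraticMap.polarBilin Q) with hG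
    have hGd : IsUnit G.det :=
      isUnit_iff_ne_zero.2 (Matrix.nondegenerate_iff_det_ne_zero.1
        (LinearMap.BilinForm.nondegenerate_toMatrix'_iff.2 hQ))
    have hGM : M.transpose * G * M = G := by
      apply (Matrix.toBilin' : _ ≃ₗ[F] LinearMap.BilinForm F (ι → F)).injective
      rw [← Matrix.toBilin'_comp, hG, Matrix.toBilin'_toMatrix']
      refine LinearMap.ext₂ fun x y => ?_
      change QuadraticMap.polar Q (Matrix.toLin' M x) (Matrix.toLin' M y) = QuadraticMap.polar Q x y
      simp only [QuadraticMap.polar, ← map_add]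
      simp only [Matrix.toLin'_apply]
      rw [(hmem g.1).1 g.2, (hmem g.1).1 g.2, (hmem g.1).1 g.2]
    have hinv : M⁻¹ = G⁻¹ * M.transpose * G := by
      refine Matrix.inv_eq_left_inv ?_
      rw [mul_assoc, mul_assoc, ← mul_assoc M.transpose, hGM, Matrix.nonsing_inv_mul G hGd]
    have h := charpoly_inv_eq M g.1.isUnit
    rw [hinv, Matrix.charpoly_mul_comm, ← mul_assoc, Matrix.mul_nonsing_inv G hGd, one_mul,
      Matrix.charpoly_transpose] at h
    exact h.symm
  · rw [hρc]
    exact hP _ (fun x => (hmem g.1).1 g.2 x) (hpow g hg)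
  · intro f hfm hfd h0 hff hfδ hfP
    obtain ⟨g, hfg, hg1⟩ := exists_eq_pow_rootMultiplicity_mul_and_not_dvd f hfm.ne_zero 1
    set k := f.rootMultiplicity 1
    have hkm : ((X - Polynomial.C (1 : F)) ^ k).Monic := (monic_X_sub_C 1).pow _
    have hgm : g.Monic := hkm.of_mul_monic_left (hfg ▸ hfm)
    have hgf : ∀ s, Irreducible s → s ∣ g → s ∣ X ^ r - 1 := fun s hs h =>
      hff s hs (hfg ▸ h.mul_left _)
    have hge1 : g.eval 1 ≠ 0 := fun h => hg1 (dvd_iff_isRoot.2 h)
    have hgen : g.eval (-1) ≠ 0 := by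
      intro h
      have h1 := hgf (X - Polynomial.C (-1 : F)) (irreducible_X_sub_C _) (dvd_iff_isRoot.2 h)
      rw [dvd_iff_isRoot, IsRoot, eval_sub, eval_pow, eval_X, eval_one, hodd.neg_one_pow] at h1
      rw [show (-1 : F) = 1 from sub_eq_zero.1 h1] at h
      exact hge1 h
    have hδg : rdual g = g := by
      have hk : ∀ j : ℕ, rdual ((X - Polynomial.C (1 : F)) ^ j) = (X - Polynomial.C 1) ^ j := by
        intro j
        induction j with
        | zero => rw [pow_zero, rdual, coeff_one_zero, inv_one, map_one, one_mul, ← map_one (Polynomial.C (R := F)), reverse_C]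
        | succ j ih => rw [pow_succ, rdual_mul, ih, rdual_X_sub_one]
      rw [hfg, rdual_mul, hk] at hfδ
      exact mul_left_cancel₀ hkm.ne_zero hfδ
    have hg0 : g.coeff 0 = 1 := by
      have h := congrArg (Polynomial.eval 1) hδg
      rw [rdual, eval_mul, eval_C, eval_one_reverse] at h
      have h2 : (g.coeff 0)⁻¹ = 1 := by
        refine mul_right_cancel₀ hge1 ?_
        rw [h, one_mul]
      exact inv_eq_one.1 h2
    have hpal : ∀ j ≤ g.natDegree, g.coeff (g.natDegree - j) = g.coeff j := by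
      intro j hj
      have h := congrArg (fun q : F[X] => q.coeff j) hδg
      simp only [rdual, hg0, inv_one, map_one, one_mul, coeff_reverse, revAt_le hj] at h
      exact h
    obtain ⟨l, hl⟩ := natDegree_even hpal hgen
    rw [← two_mul] at hl
    obtain ⟨a, Ql, hQl, ha, hac, har, hfix⟩ := exists_fpf_isometry (p := p) g hgm hl
      (by rw [← hl]; exact hpal) hg0 hge1 hgen hgf
    have hdeg : Fintype.card ι = k + 2 * l := by
      rw [← hfd, hfg, hkm.natDegree_mul hgm, natDegree_pow, natDegree_X_sub_C, mul_one, hl]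
    obtain ⟨b, hb, hbk, hbc⟩ := exists_extension hQl
      (hemb l a Ql hQl ha har hfix (by omega) (by
        rw [hac, show Fintype.card ι - 2 * l = k by omega, ← hfg]; exact hfP)) a ha
    have hbr : b ^ r = 1 := hbk r har
    have hbf : b.charpoly = f := by
      rw [hbc, hac, Module.finrank_fintype_fun_eq_card, Module.finrank_fintype_fun_eq_card,
        Fintype.card_sum, Fintype.card_fin, show Fintype.card ι - (l + l) = k by omega, hfg, map_one]
    let M : GL ι F := Units.ofPowEqOne (LinearMap.toMatrix' b) r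
      (by
        have := congrArg (LinearMap.toMatrixAlgEquiv' (R := F) (n := ι)) hbr
        rw [map_pow, map_one] at this
        exact this) hr.ne_zero
    have hMv : M.1 = LinearMap.toMatrix' b := rfl
    refine ⟨⟨M, (hmem M).2 fun x => by rw [hMv, LinearMap.toMatrix'_mulVec]; exact hb x⟩, ?_, ?_⟩
    · rw [← Subgroup.orderOf_coe]
      refine hpr.coprime_dvd_left (orderOf_dvd_of_pow_eq_one (Units.ext ?_))
      rw [Units.val_pow_eq_pow_val, hMv]
      have := congrArg (LinearMap.toMatrixAlgEquiv' (R := F) (n := ι)) hbr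
      rw [map_pow, map_one] at this
      exact this
    · rw [hρc]
      change (Matrix.toLin' (LinearMap.toMatrix' b)).charpoly = f
      rw [Matrix.toLin'_toMatrix', hbf]

end Cfsg.Agent.DualCount
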