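import Cfsg.Agent.DualCount.OrthCount
import Cfsg.Agent.Classical.QuadBasis

/-!
The types of the blocks, and counts of self-dual polynomials used for the orthogonal groups.
-/

set_option autoImplicit false

namespace Cfsg.Agent.DualCount

open Module Polynomial Cfsg.Agent.Classical

universe u

variable {F : Type u} [Field F] [Fintype F]

/-- The type of a fixed-point-free block: hyperbolic or elliptic according to `q ^ l` modulo `r`. -/
theorem block_cases {r l : ℕ} (hr : r.Prime) (hr2 : r ≠ 2) (hrq : (Fintype.card F : ZMod r) ≠ 0)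
    (a : Module.End F (Fin l ⊕ Fin l → F)) (Ql : QuadraticForm F (Fin l ⊕ Fin l → F))
    (hQl : (QuadraticMap.polarBilin Ql).Nondegenerate) (ha : ∀ x, Ql (a x) = Ql x) (har : a ^ r = 1)
    (hfix : ∀ x, a x = x → x = 0) :
    ((Fintype.card F : ZMod r) ^ l = 1 ∧ Emb Ql (Quad.hyp (Quad.zeroForm F) l)) ∨
      ((Fintype.card F : ZMod r) ^ l = -1 ∧ 1 ≤ l ∧ ∀ c d : F,
        (∀ z₁ z₂ : F, z₁ ^ 2 + c * z₁ * z₂ + d * z₂ ^ 2 = 0 → z₁ = 0 ∧ z₂ = 0) →
        Emb Ql (Quad.hyp (Quad.binForm c d) (l - 1))) := by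
  classical
  have hV : finrank F (Fin l ⊕ Fin l → F) = 2 * l := by
    rw [Module.finrank_fintype_fun_eq_card, Fintype.card_sum, Fintype.card_fin, two_mul]
  rcases Quad.even_cases hQl hV with h | ⟨hl, h⟩
  · refine Or.inl ⟨?_, Emb.of_iso h.symm⟩
    rcases Nat.eq_zero_or_pos l with rfl | hl
    · rw [pow_zero]
    · obtain ⟨l, rfl⟩ := Nat.exists_eq_add_of_le' hl
      exact (pow_half_dim_eq hQl hr hrq hV a ha har hfix).1 h
  · obtain ⟨l, rfl⟩ := Nat.exists_eq_add_of_le' hl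
    rw [Nat.add_sub_cancel] at h
    obtain ⟨ζ, hζ⟩ := Quad.exists_rootfree (F := F)
    refine Or.inr ⟨(pow_half_dim_eq hQl hr hrq hV a ha har hfix).2 _ _ (Quad.rootfree_aniso hζ)
      (h _ _ (Quad.rootfree_aniso hζ)), le_add_self, fun c d hcd => ?_⟩
    rw [Nat.add_sub_cancel]
    exact Emb.of_iso (h c d hcd).symm

theorem two_ne_zero_zmod {r : ℕ} (hr : r.Prime) (hr2 : r ≠ 2) : (1 : ZMod r) ≠ -1 := by
  intro h
  have h2 : ((2 : ℕ) : ZMod r) = 0 := by push_cast; linear_combination h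
  exact hr2 ((Nat.prime_dvd_prime_iff_eq hr Nat.prime_two).1 ((ZMod.natCast_eq_zero_iff _ _).1 h2))

theorem choose_pascal {M T : ℕ} (hM : 1 ≤ M) (hT : 1 ≤ T) :
    (M - 1 + T).choose T = (M + T).choose T - (M + T - 1).choose (T - 1) := by
  obtain ⟨M, rfl⟩ := Nat.exists_eq_add_of_le' hM
  obtain ⟨T, rfl⟩ := Nat.exists_eq_add_of_le' hT
  rw [show M + 1 + (T + 1) = (M + 1 + T) + 1 by omega, Nat.choose_succ_succ', Nat.add_sub_cancel,
    Nat.add_sub_cancel, Nat.add_sub_cancel, show M + (T + 1) = M + 1 + T by omega]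
  omega

/-- The counts of self-dual polynomials in terms of the parity of the order of `q` modulo `r`. -/
theorem card_rdual {p q r i t : ℕ} [Fact p.Prime] [CharP F p] (hF : Fintype.card F = q) (hr : r.Prime)
    (hr2 : r ≠ 2) (hrp : r ≠ p) (hi : i = orderOf (q : ZMod r)) (ht : t * i = r - 1) :
    0 < i ∧ (q : ZMod r) ≠ 0 ∧
      (Odd i → 2 ≤ t ∧ ∀ n, Nat.card {f : F[X] // f.Monic ∧ f.natDegree = n ∧
          (∀ s, Irreducible s → s ∣ f → s ∣ X ^ r - 1) ∧ f ≠ (X - Polynomial.C 1) ^ n ∧ rdual f = f} =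
        (n / (2 * i) + t / 2).choose (t / 2) - 1) ∧
      (¬ Odd i → 1 ≤ t ∧ (q : ZMod r) ^ (i / 2) = -1 ∧ ∀ n, Nat.card {f : F[X] // f.Monic ∧ f.natDegree = n ∧
          (∀ s, Irreducible s → s ∣ f → s ∣ X ^ r - 1) ∧ f ≠ (X - Polynomial.C 1) ^ n ∧ rdual f = f} =
        (n / i + t).choose t - 1) := by
  haveI := Fact.mk hr
  have hq0 : (q : ZMod r) ≠ 0 := by
    obtain ⟨E, hpp, hE⟩ := FiniteField.card F p
    rw [← hF, hE, Nat.cast_pow]
    exact pow_ne_zero _ fun h => hrp ((Nat.prime_dvd_prime_iff_eq hr hpp).1 ((ZMod.natCast_eq_zero_iff _ _).1 h))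
  have hi0 : 0 < i := by
    rw [hi]
    exact orderOf_pos_iff.2 (isOfFinOrder_iff_pow_eq_one.2 ⟨r - 1, by have := hr.two_le; omega,
      ZMod.pow_card_sub_one_eq_one hq0⟩)
  have hecast : ((r - 1 : ℕ) : ZMod r) = -1 := by
    rw [Nat.cast_sub hr.one_le, ZMod.natCast_self, Nat.cast_one, zero_sub]
  have hpowi : (q : ZMod r) ^ i = 1 := by rw [hi]; exact pow_orderOf_eq_one _
  have ht0 : 1 ≤ t := by
    rcases Nat.eq_zero_or_pos t with rfl | h
    · have := hr.two_le; omega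
    · exact h
  have key : ∀ n, _ := fun n => card_selfDual (F := F) (n := n) (i := i) hr hrp (by rw [hF, hi]) ht rdual
    (dual_rdual hr.pos) (by rw [hecast]; exact neg_ne_zero.2 one_ne_zero)
  refine ⟨hi0, hq0, fun hodd => ⟨?_, fun n => (key n).2 ?_⟩, fun hodd => ?_⟩
  · obtain ⟨u, hu⟩ : Even t := by
      have h1 : Even (t * i) := by rw [ht]; exact Nat.Odd.sub_odd (hr.odd_of_ne_two hr2) odd_one
      exact (Nat.even_mul.1 h1).resolve_right (Nat.not_even_iff_odd.2 hodd)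
    omega
  · rintro ⟨j, hj⟩
    rw [hecast, hF] at hj
    have h6 : i ∣ 2 * j := by
      rw [hi]
      refine orderOf_dvd_of_pow_eq_one ?_
      rw [mul_comm, pow_mul, ← hj, neg_one_sq]
    have h7 := (Nat.coprime_two_right.2 hodd).dvd_of_dvd_mul_left h6
    rw [hi] at h7
    exact two_ne_zero_zmod hr hr2 ((orderOf_dvd_iff_pow_eq_one.1 h7).symm.trans hj.symm)
  · obtain ⟨u, hu⟩ := Nat.not_odd_iff_even.1 hodd
    have h2 : (q : ZMod r) ^ (i / 2) * (q : ZMod r) ^ (i / 2) = 1 := by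
      rw [← pow_add, show i / 2 + i / 2 = i by omega, hpowi]
    have hhalf : (q : ZMod r) ^ (i / 2) = -1 := by
      refine (mul_self_eq_one_iff.1 h2).resolve_left fun h => ?_
      have := Nat.le_of_dvd (by omega) (hi ▸ orderOf_dvd_of_pow_eq_one h)
      omega
    exact ⟨ht0, hhalf, fun n => (key n).1 ⟨i / 2, by rw [hecast, hF, hhalf]⟩⟩

end Cfsg.Agent.DualCount
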